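import Cfsg.Agent.H60.LThreeFour.Main

/-!
# The Schur multiplier of `PSL(3,4)` is `Z₃ × Z₄ × Z₄` (helper60)
-/

set_option autoImplicit false
set_option linter.constructorNameAsVariable false

namespace Cfsg.Agent.H60.LThreeFour

open Subgroup Function Matrix
open Cfsg.Agent.SporadicA.FieldFour
open Cfsg.Agent.ONType.Psl
open Cfsg.Agent.OddHalf.D9.L34Mult (CE)
open Cfsg.Agent.H51.Mult

/-- an element of order three in the kernel -/
theorem exists_three : ∃ t : prU.ker, orderOf t = 3 := by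
  have hcen : prS.ker ≤ center SL3 := by rw [prS_ker]
  obtain ⟨φ, hφ⟩ := H487.exists_prU_lift PSL3 (MonoidHom.id PSL3) prS_surj hcen
  have hφ' : ∀ x, prS (φ x) = prU x := fun x => DFunLike.congr_fun hφ x
  have hs : Surjective φ := by
    have h1 := H487.commutator_eq_map_of_central hcen (φ := φ) (by
      rw [hφ]; exact pceU.surj)
    rw [perfect_SL3, (H487.isPerfect_UU isPerfect_PSL3).commutator_eq_top, ← MonoidHom.range_eq_map] at h1
    exact MonoidHom.range_eq_top.1 h1.symm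
  have : Fact (Nat.Prime 3) := ⟨by norm_num⟩
  obtain ⟨c, hc⟩ := exists_prime_orderOf_dvd_card' (G := center SL3) 3 (by rw [card_center])
  obtain ⟨k, hk⟩ := hs c
  have hk1 : prU k = 1 := by
    rw [← hφ', hk, ← MonoidHom.mem_ker, prS_ker]
    exact c.2
  apply exists_prime_orderOf_dvd_card'
  have h1 : orderOf (φ k) ∣ orderOf (⟨k, hk1⟩ : prU.ker) := by
    apply orderOf_dvd_of_pow_eq_one
    have h2 : k ^ orderOf (⟨k, hk1⟩ : prU.ker) = 1 := congrArg Subtype.val (pow_orderOf_eq_one (⟨k, hk1⟩ : prU.ker))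
    rw [← map_pow, h2, map_one]
  have h2 : orderOf (φ k) = 3 := by
    rw [hk]
    exact (Subgroup.orderOf_coe c).trans hc
  rw [h2] at h1
  exact h1.trans (orderOf_dvd_natCard _)

theorem f_ker (s : F4) : prU (ceU.f s) = 1 := ceU.f_map s

/-- the powers of `g 1`, `g ω` are independent -/
theorem indep {a b : ℕ} (h : ceU.f 1 ^ a * ceU.f ω2 ^ b = 1) : a % 2 = 0 ∧ b % 2 = 0 := by
  have h1 : ∀ s (a : ℕ), ceU.f s ^ a = ceU.f s ^ (a % 2) := fun s a =>
    pow_eq_pow_mod a (by rw [pow_two, ceU.f_sq])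
  rw [h1 1 a, h1 ω2 b] at h
  have ha := Nat.mod_two_eq_zero_or_one a
  have hb := Nat.mod_two_eq_zero_or_one b
  rcases ha with ha | ha <;> rcases hb with hb | hb
  · exact ⟨ha, hb⟩
  · rw [ha, hb, pow_zero, one_mul, pow_one] at h
    exact absurd (f_inj h) (by decide)
  · rw [ha, hb, pow_zero, mul_one, pow_one] at h
    exact absurd (f_inj h) (by decide)
  · rw [ha, hb, pow_one, pow_one, ← ceU.f_add] at h
    exact absurd (f_inj h) (by decide)

theorem g_sq1 : ceU.g 1 ^ 2 = ceU.f 1 := by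
  rw [pow_two, ceU.g_sq]; rfl

theorem g_sqw : ceU.g ω ^ 2 = ceU.f ω2 := by
  rw [pow_two, ceU.g_sq]; rfl

theorem comm_g (a b : ℕ) (x y : U) (hx : prU x = 1) : x ^ a * y ^ b = y ^ b * x ^ a :=
  pceU.comm (by rw [map_pow, hx, one_pow]) _

theorem indep_g {a b : ℕ} (h : ceU.g 1 ^ a * ceU.g ω ^ b = 1) : a % 4 = 0 ∧ b % 4 = 0 := by
  have hc : Commute (ceU.g 1 ^ a) (ceU.g ω ^ b) := comm_g a b _ _ (ceU.g_map 1)
  have h2 := congrArg (· ^ 2) h
  simp only [one_pow] at h2
  rw [hc.mul_pow, ← pow_mul, ← pow_mul, mul_comm a, mul_comm b, pow_mul, pow_mul, g_sq1, g_sqw] at h2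
  obtain ⟨ha, hb⟩ := indep h2
  obtain ⟨a', rfl⟩ : ∃ a', a = 2 * a' := ⟨a / 2, by omega⟩
  obtain ⟨b', rfl⟩ : ∃ b', b = 2 * b' := ⟨b / 2, by omega⟩
  rw [pow_mul, pow_mul, g_sq1, g_sqw] at h
  obtain ⟨ha', hb'⟩ := indep h
  omega

/-- **The isomorphism.** -/
theorem nonempty_equiv : Nonempty (Multiplicative (ZMod 3 × ZMod 4 × ZMod 4) ≃* prU.ker) := by
  obtain ⟨t, ht⟩ := exists_three
  have ht3 : (t : U) ^ 3 = 1 := by
    have := pow_orderOf_eq_one t
    rw [ht] at this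
    exact congrArg Subtype.val this
  have hp : ∀ (a b c : ℕ), prU ((t : U) ^ c * ceU.g 1 ^ a * ceU.g ω ^ b) = 1 := by
    intro a b c
    rw [map_mul, map_mul, map_pow, map_pow, map_pow, ceU.g_map, ceU.g_map, MonoidHom.mem_ker.1 t.2, one_pow, one_pow,
      one_pow, one_mul, one_mul]
  let f : Multiplicative (ZMod 3 × ZMod 4 × ZMod 4) →* prU.ker :=
    { toFun := fun x => ⟨(t : U) ^ x.toAdd.1.val * ceU.g 1 ^ x.toAdd.2.1.val * ceU.g ω ^ x.toAdd.2.2.val, hp _ _ _⟩
      map_one' := by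
        apply Subtype.ext
        show (t : U) ^ (0 : ZMod 3).val * ceU.g 1 ^ (0 : ZMod 4).val * ceU.g ω ^ (0 : ZMod 4).val = 1
        rw [ZMod.val_zero, ZMod.val_zero, pow_zero, pow_zero, pow_zero, one_mul, one_mul]
      map_mul' := by
        rintro ⟨c, a, b⟩ ⟨c', a', b'⟩
        apply Subtype.ext
        show (t : U) ^ (c + c').val * ceU.g 1 ^ (a + a').val * ceU.g ω ^ (b + b').val =
          ((t : U) ^ c.val * ceU.g 1 ^ a.val * ceU.g ω ^ b.val) * ((t : U) ^ c'.val * ceU.g 1 ^ a'.val * ceU.g ω ^ b'.val)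
        rw [ZMod.val_add, ZMod.val_add, ZMod.val_add, ← pow_eq_pow_mod _ ht3, ← pow_eq_pow_mod _ (ceU.g_four 1),
          ← pow_eq_pow_mod _ (ceU.g_four ω), pow_add, pow_add, pow_add]
        have e1 := fun (k : ℕ) (y : U) => pceU.comm (z := (t : U) ^ k) (by rw [map_pow, MonoidHom.mem_ker.1 t.2, one_pow]) y
        have e2 := fun (k : ℕ) (y : U) => pceU.comm (z := ceU.g 1 ^ k) (by rw [map_pow, ceU.g_map, one_pow]) y
        generalize (t : U) ^ c.val = T
        have e1' := e1 c'.val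
        generalize (t : U) ^ c'.val = T' at e1' ⊢
        have e2' := e2 a'.val
        generalize ceU.g 1 ^ a'.val = A' at e2' ⊢
        calc T * T' * (ceU.g 1 ^ a.val * A') * (ceU.g ω ^ b.val * ceU.g ω ^ b'.val)
            = T * (T' * (ceU.g 1 ^ a.val * (A' * ceU.g ω ^ b.val) * ceU.g ω ^ b'.val)) := by group
          _ = T * (T' * (ceU.g 1 ^ a.val * ceU.g ω ^ b.val) * A' * ceU.g ω ^ b'.val) := by rw [e2']; group
          _ = T * (ceU.g 1 ^ a.val * ceU.g ω ^ b.val) * T' * A' * ceU.g ω ^ b'.val := by rw [e1']; group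
          _ = _ := by group }
  have hinj : Injective f := by
    rw [injective_iff_map_eq_one]
    rintro ⟨c, a, b⟩ h
    have h1 : (t : U) ^ c.val * ceU.g 1 ^ a.val * ceU.g ω ^ b.val = 1 := congrArg Subtype.val h
    have hc1 : Commute ((t : U) ^ c.val) (ceU.g 1 ^ a.val * ceU.g ω ^ b.val) :=
      pceU.comm (by rw [map_pow, MonoidHom.mem_ker.1 t.2, one_pow]) _
    have hc2 : Commute (ceU.g 1 ^ a.val) (ceU.g ω ^ b.val) := comm_g _ _ _ _ (ceU.g_map 1)
    have hgg : (ceU.g 1 ^ a.val * ceU.g ω ^ b.val) ^ 4 = 1 := by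
      rw [hc2.mul_pow, ← pow_mul, ← pow_mul, mul_comm a.val, mul_comm b.val, pow_mul, pow_mul, ceU.g_four, ceU.g_four,
        one_pow, one_pow, one_mul]
    have h4 : ((t : U) ^ c.val) = 1 := by
      have h2 := congrArg (· ^ 4) h1
      simp only [one_pow] at h2
      rw [mul_assoc, hc1.mul_pow, hgg, mul_one, ← pow_mul, show c.val * 4 = 3 * c.val + c.val by ring, pow_add,
        pow_mul, ht3, one_pow, one_mul] at h2
      exact h2
    have h5 : c = 0 := by
      have h6 : orderOf t ∣ c.val := by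
        apply orderOf_dvd_of_pow_eq_one
        exact Subtype.ext h4
      rw [ht] at h6
      have h7 := ZMod.val_lt c
      rw [← ZMod.val_eq_zero]
      omega
    rw [h4, one_mul] at h1
    obtain ⟨ha, hb⟩ := indep_g h1
    have h8 := ZMod.val_lt a
    have h9 := ZMod.val_lt b
    have ha0 : a = 0 := by rw [← ZMod.val_eq_zero]; omega
    have hb0 : b = 0 := by rw [← ZMod.val_eq_zero]; omega
    rw [h5, ha0, hb0]
    rfl
  have hb : Bijective f := by
    apply hinj.bijective_of_nat_card_le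
    have e : Nat.card (Multiplicative (ZMod 3 × ZMod 4 × ZMod 4)) = 48 := by
      rw [Nat.card_congr Multiplicative.toAdd, Nat.card_prod, Nat.card_prod, Nat.card_zmod, Nat.card_zmod]
    rw [e]
    exact card_U
  exact ⟨MulEquiv.ofBijective f hb⟩

/-- **The Schur multiplier of `PSL(3,4)`.** -/
theorem hasMultiplier : Cfsg.HasSchurMultiplier PSL3 (Multiplicative (ZMod 3 × ZMod 4 × ZMod 4)) := by
  obtain ⟨e⟩ := nonempty_equiv
  obtain ⟨f⟩ := H487.nonempty_prU_ker PSL3
  exact H487.hasSchurMultiplier_iff.2 ⟨e.trans f⟩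

end Cfsg.Agent.H60.LThreeFour
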